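import Groth.Prelude.Def_W4c6secantcecoversSchSt
import Mathlib

/-!
# The Scheja–Storch differential is adjoint to itself for the pairing
-/

noncomputable section

open TensorProduct W4c6secantcecovers

namespace Groth.Agent.SecantX

universe u v

variable {R : Type u} [CommRing R] {r : ℕ}

theorem ιMulti_eq_zero {m : ℕ} (hm : r < m) (v : Fin m → (Fin r → R)) :
    ExteriorAlgebra.ιMulti R m v = 0 := by
  have : (ExteriorAlgebra.ιMulti R m : (Fin r → R) [⋀^Fin m]→ₗ[R] _) = 0 := by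
    refine Module.Basis.ext_alternating (Pi.basisFun R (Fin r)) fun i hi => ?_
    exact absurd (Fintype.card_le_of_injective i hi) (by simpa using hm)
  rw [this]; rfl

theorem ιMulti_mul {m m' : ℕ} (e : Fin m → (Fin r → R)) (f : Fin m' → (Fin r → R)) :
    ExteriorAlgebra.ιMulti R m e * ExteriorAlgebra.ιMulti R m' f =
      ExteriorAlgebra.ιMulti R (m + m') (Fin.append e f) := by
  simp only [ExteriorAlgebra.ιMulti_apply, ← List.prod_append, ← List.ofFn_fin_append]
  congr 2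
  funext i
  refine Fin.addCases (fun j => ?_) (fun j => ?_) i <;> simp

theorem contr_ιMulti_mul (j : Fin r) (m : ℕ) (e : Fin m → (Fin r → R)) (η : SSLam R r) :
    ssContr R r j (ExteriorAlgebra.ιMulti R m e * η) =
      ssContr R r j (ExteriorAlgebra.ιMulti R m e) * η +
        (-1 : R) ^ m • (ExteriorAlgebra.ιMulti R m e * ssContr R r j η) := by
  induction m with
  | zero =>
    rw [show ExteriorAlgebra.ιMulti R 0 e = 1 by simp, one_mul, one_mul, pow_zero, one_smul, ssContr,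
      CliffordAlgebra.contractLeft_one, zero_mul, zero_add]
  | succ m ih =>
    rw [ExteriorAlgebra.ιMulti_succ_apply, mul_assoc]
    erw [CliffordAlgebra.contractLeft_ι_mul, CliffordAlgebra.contractLeft_ι_mul]
    have := ih (Matrix.vecTail e)
    simp only [ssContr] at this
    erw [this]
    simp only [mul_add, sub_mul, smul_mul_assoc, mul_smul_comm, mul_assoc, pow_succ, mul_neg,
      mul_one, neg_smul]
    abel_nf
    rfl

variable {N : Type v} [AddCommGroup N] [Module R N]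

theorem pair_apply (β : N →ₗ[R] N →ₗ[R] R) (k : ℕ) (a b : SSLam R r)
    (s t : MvPolynomial (Fin r) R) (n m : N) :
    ssPair R r N β k ((a ⊗ₜ[R] s) ⊗ₜ[R] n) ((b ⊗ₜ[R] t) ⊗ₜ[R] m) =
      (-1 : R) ^ (k.choose 2) • β n m • ((a * b) ⊗ₜ[R] (s * t)) := by
  simp [ssPair, ssPairAux, TensorProduct.curry_apply]

theorem delta_apply (φ : Fin r → (N →ₗ[R] N)) (a : SSLam R r) (s : MvPolynomial (Fin r) R) (n : N) :
    ssDelta R r N φ ((a ⊗ₜ[R] s) ⊗ₜ[R] n) = ∑ j,
      (((ssContr R r j a) ⊗ₜ[R] (MvPolynomial.X j * s)) ⊗ₜ[R] n +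
        (-1 : R) • (((ssContr R r j a) ⊗ₜ[R] s) ⊗ₜ[R] φ j n)) := by
  simp [ssDelta, ssDKoszul, ssDAct, LinearMap.sum_apply]

theorem adjoint (φ : Fin r → (N →ₗ[R] N)) (β : N →ₗ[R] N →ₗ[R] R)
    (hβ : ∀ (j : Fin r) (n m : N), β (φ j n) m = β n (φ j m))
    (k : ℕ) (hk : k < r) (e : Fin (k + 1) → (Fin r → R)) (f : Fin (r - k) → (Fin r → R))
    (s t : MvPolynomial (Fin r) R) (n m : N) :
    ssPair R r N β k
        (ssDelta R r N φ ((ExteriorAlgebra.ιMulti R (k + 1) e ⊗ₜ[R] s) ⊗ₜ[R] n))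
        ((ExteriorAlgebra.ιMulti R (r - k) f ⊗ₜ[R] t) ⊗ₜ[R] m) =
      ssPair R r N β (k + 1)
        ((ExteriorAlgebra.ιMulti R (k + 1) e ⊗ₜ[R] s) ⊗ₜ[R] n)
        (ssDelta R r N φ ((ExteriorAlgebra.ιMulti R (r - k) f ⊗ₜ[R] t) ⊗ₜ[R] m)) := by
  set ω := ExteriorAlgebra.ιMulti R (k + 1) e
  set η := ExteriorAlgebra.ιMulti R (r - k) f
  have key : ∀ j, ssContr R r j ω * η = (-1 : R) ^ k • (ω * ssContr R r j η) := fun j => by
    have h := contr_ιMulti_mul j (k + 1) e η
    rw [show ExteriorAlgebra.ιMulti R (k + 1) e * η = 0 by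
      rw [ιMulti_mul]; exact ιMulti_eq_zero (by omega) _, map_zero, pow_succ, mul_neg_one,
      neg_smul, ← sub_eq_add_neg, eq_comm, sub_eq_zero] at h
    exact h
  have hc : (k + 1).choose 2 = k + k.choose 2 := by
    rw [show (2 : ℕ) = 1 + 1 from rfl, Nat.choose_succ_succ, Nat.choose_one_right]
  simp only [delta_apply, map_sum, map_add, map_smul, LinearMap.sum_apply, LinearMap.add_apply,
    LinearMap.smul_apply, pair_apply]
  refine Finset.sum_congr rfl fun j _ => ?_
  rw [hc, key, hβ, mul_left_comm s (MvPolynomial.X j), mul_assoc]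
  simp only [← TensorProduct.smul_tmul', smul_smul, pow_add]
  ring_nf

end Groth.Agent.SecantX
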